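import Groth.Agent.MorseLib.Morse
import Mathlib.FieldTheory.IsAlgClosed.Basic

/-!
# Ordinary quadratic series are determined by their quadratic part up to units and automorphisms
-/

set_option autoImplicit false
set_option maxHeartbeats 800000

universe u

open MvPowerSeries

noncomputable section

namespace Groth.Agent.QuadHensLib

open MorseLib VanCyc

variable {k : Type u} [Field k] {n : ℕ}

/-- The value of the polar form of a quadratic form. -/
theorem quadEval_line (q : Fin n → Fin n → k) (t : k) (v w : Fin n → k)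
    (hv : (polarMatrix q).mulVec v = 0) :
    quadEval q (t • v + w) = t ^ 2 * quadEval q v + quadEval q w := by
  classical
  have hsplit : quadEval q (t • v + w) = t ^ 2 * quadEval q v + quadEval q w +
      t * ∑ i, ∑ j, (if i ≤ j then q i j * (v i * w j + w i * v j) else 0) := by
    simp only [quadEval, Finset.mul_sum, ← Finset.sum_add_distrib]
    refine Finset.sum_congr rfl fun i _ => Finset.sum_congr rfl fun j _ => ?_
    split_ifs with h
    · simp only [Pi.add_apply, Pi.smul_apply, smul_eq_mul]; ring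
    · simp
  have hb : (∑ i, ∑ j, (if i ≤ j then q i j * (v i * w j + w i * v j) else 0)) =
      ∑ l, w l * (polarMatrix q).mulVec v l := by
    have hP : ∀ l r, polarMatrix q l r =
        (if l ≤ r then q l r else 0) + (if r ≤ l then q r l else 0) := fun l r => by
      rcases lt_trichotomy l r with h | h | h
      · simp [polarMatrix, h.ne, h, h.le, h.not_ge]
      · subst h; simp [polarMatrix, two_mul]
      · simp [polarMatrix, h.ne', h.not_gt, h.le, h.not_ge]
    simp only [Matrix.mulVec, dotProduct, hP, Finset.mul_sum, add_mul, mul_add, Finset.sum_add_distrib]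
    rw [add_comm, Finset.sum_comm (γ := Fin n) (f := fun l r => w l * ((if r ≤ l then q r l else 0) * v r)),
      ← Finset.sum_add_distrib]
    refine Finset.sum_congr rfl fun i _ => ?_
    rw [← Finset.sum_add_distrib]
    refine Finset.sum_congr rfl fun j _ => ?_
    split_ifs <;> ring
  rw [hsplit, hb, hv]
  simp

/-- For an ordinary form, cubes lie in `m Q + m ^ 2 (∂ Q)`. -/
theorem cube_le [IsAlgClosed k] (q : Fin n → Fin n → k) (hq : QuadOrd q) :
    aug k n ^ 3 ≤ aug k n * Ideal.span {qv q X} ⊔ aug k n ^ 2 * Ideal.span (Set.range (grad q)) := by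
  classical
  set M := aug k n with hMdef
  set P := polarMatrix q with hPdef
  set J := Ideal.span (Set.range (grad q)) with hJdef
  have hlin : ∀ c : Fin n → k, ∑ i, C (c i) * X i ∈ M := fun c =>
    Ideal.sum_mem _ fun i _ => Ideal.mul_mem_left _ _ (X_mem i)
  have hJM : J ≤ M := Ideal.span_le.2 (by rintro _ ⟨i, rfl⟩; exact hlin _)
  have hrow : ∀ c : Fin n → k, ∑ j, C ((Matrix.vecMul c P) j) * X j = ∑ i, C (c i) * grad q i := fun c => by
    simp only [Matrix.vecMul, dotProduct, map_sum, map_mul, Finset.sum_mul, grad, Finset.mul_sum]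
    rw [Finset.sum_comm]
    exact Finset.sum_congr rfl fun i _ => Finset.sum_congr rfl fun j _ => by ring
  have hker : ∀ v w, P.mulVec v = 0 → P.mulVec w = 0 → v ≠ 0 → ∃ t : k, w = t • v := by
    intro v w hv hw hv0
    have hQv : quadEval q v ≠ 0 := fun h => hv0 (hq v h hv)
    obtain ⟨t, ht⟩ := IsAlgClosed.exists_pow_nat_eq (-(quadEval q w) / quadEval q v) (n := 2) two_pos
    refine ⟨-t, ?_⟩
    have h0 : t • v + w = 0 := hq _ (by rw [quadEval_line q t v w hv, ht, div_mul_cancel₀ _ hQv, neg_add_cancel])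
      (by rw [Matrix.mulVec_add, Matrix.mulVec_smul, hv, hw, smul_zero, add_zero])
    rw [neg_smul]
    exact eq_neg_of_add_eq_zero_right h0
  -- linear forms killing the kernel come from the rows
  have himg : ∀ c : Fin n → k, (∀ v, P.mulVec v = 0 → ∑ i, c i * v i = 0) → ∑ i, C (c i) * X i ∈ J := by
    intro c hc
    let φ : (Fin n → k) →ₗ[k] k :=
      { toFun := fun v => ∑ i, c i * v i
        map_add' := fun a b => by simp [mul_add, Finset.sum_add_distrib]
        map_smul' := fun t a => by simp [Finset.mul_sum, mul_left_comm] }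
    have hφ : φ ∈ (LinearMap.ker P.mulVecLin).dualAnnihilator := by
      rw [Submodule.mem_dualAnnihilator]
      exact fun v hv => hc v hv
    rw [← LinearMap.range_dualMap_eq_dualAnnihilator_ker] at hφ
    obtain ⟨ψ, hψ⟩ := hφ
    have hc' : c = Matrix.vecMul (fun i => ψ (Pi.single i 1)) P := by
      funext j
      have h1 := LinearMap.congr_fun hψ (Pi.single j 1)
      have h2 : φ (Pi.single j 1) = c j := by simp [φ, Pi.single_apply]
      rw [h2] at h1
      rw [← h1]
      show ψ (P.mulVecLin (Pi.single j 1)) = _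
      rw [Matrix.mulVecLin_apply, Matrix.mulVec_single_one]
      conv_lhs => rw [show P.col j = ∑ i, P i j • (Pi.single i 1 : Fin n → k) from by
        funext l; simp [Finset.sum_apply, Pi.single_apply, Matrix.col]]
      rw [map_sum]
      simp only [map_smul, smul_eq_mul, Matrix.vecMul, dotProduct]
      exact Finset.sum_congr rfl fun i _ => mul_comm _ _
    rw [hc', hrow]
    exact Ideal.sum_mem _ fun i _ => Ideal.mul_mem_left _ _ (Ideal.subset_span ⟨i, rfl⟩)
  have hX : ∀ i, (X i : MvPowerSeries (Fin n) k) = ∑ j, C ((Pi.single i 1 : Fin n → k) j) * X j := fun i => by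
    rw [Finset.sum_eq_single i] <;> simp +contextual
  by_cases hinj : ∀ v, P.mulVec v = 0 → v = 0
  · have hMJ : M ≤ J := by
      rw [hMdef, aug_eq_span, Ideal.span_le]
      rintro _ ⟨i, rfl⟩
      rw [hX]
      exact himg _ fun v hv => by simp [hinj v hv]
    rw [pow_succ]
    exact (Ideal.mul_mono_right hMJ).trans le_sup_right
  push Not at hinj
  obtain ⟨v, hv, hv0⟩ := hinj
  have hQv : quadEval q v ≠ 0 := fun h => hv0 (hq v h hv)
  obtain ⟨l, hl⟩ : ∃ l, v l ≠ 0 := by
    by_contra h; push Not at h; exact hv0 (funext h)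
  set ℓ : MvPowerSeries (Fin n) k := C (v l)⁻¹ * X l with hℓ
  have hℓM : ℓ ∈ M := Ideal.mul_mem_left _ _ (X_mem l)
  have hXi : ∀ i, X i - C (v i) * ℓ ∈ J := fun i => by
    have := himg (Pi.single i 1 - (v i * (v l)⁻¹) • Pi.single l 1) fun w hw => by
      obtain ⟨t, rfl⟩ := hker v w hv hw hv0
      simp [sub_mul, Finset.sum_sub_distrib, Pi.single_apply]
      field_simp
      ring
    convert this using 1
    rw [hX i, hℓ, hX l]
    simp [Finset.mul_sum, map_sub, map_mul, sub_mul, Finset.sum_sub_distrib, mul_assoc]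
  have hM' : M ≤ J ⊔ Ideal.span {ℓ} := by
    rw [hMdef, aug_eq_span, Ideal.span_le]
    rintro _ ⟨i, rfl⟩
    rw [show X i = (X i - C (v i) * ℓ) + C (v i) * ℓ by ring]
    exact Submodule.add_mem_sup (hXi i) (Ideal.mem_span_singleton'.2 ⟨_, rfl⟩)
  -- the square of the remaining coordinate
  have hsq : ℓ ^ 2 ∈ Ideal.span {qv q X} ⊔ M * J := by
    have hd : qv q X - C (quadEval q v) * ℓ ^ 2 ∈ M * J := by
      have heq : C (quadEval q v) * ℓ ^ 2 = qv q (fun i => C (v i) * ℓ) := by
        simp only [quadEval, qv, map_sum, Finset.sum_mul]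
        refine Finset.sum_congr rfl fun i _ => Finset.sum_congr rfl fun j _ => ?_
        split_ifs <;> simp <;> ring
      rw [heq]
      simp only [qv, ← Finset.sum_sub_distrib]
      refine Ideal.sum_mem _ fun i _ => Ideal.sum_mem _ fun j _ => ?_
      rw [show (if i ≤ j then C (q i j) else 0) * X i * X j -
          (if i ≤ j then C (q i j) else 0) * (C (v i) * ℓ) * (C (v j) * ℓ) =
          (if i ≤ j then C (q i j) else 0) * (X j * (X i - C (v i) * ℓ) + C (v i) * ℓ * (X j - C (v j) * ℓ)) by ring]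
      exact Ideal.mul_mem_left _ _ (add_mem (Ideal.mul_mem_mul (X_mem j) (hXi i))
        (Ideal.mul_mem_mul (Ideal.mul_mem_left _ _ hℓM) (hXi j)))
    have h1 : ℓ ^ 2 = C (quadEval q v)⁻¹ * qv q X - C (quadEval q v)⁻¹ * (qv q X - C (quadEval q v) * ℓ ^ 2) := by
      rw [← mul_sub, sub_sub_cancel, ← mul_assoc, ← map_mul, inv_mul_cancel₀ hQv, map_one, one_mul]
    rw [h1]
    exact sub_mem (Ideal.mul_mem_left _ _ (Ideal.mem_sup_left (Ideal.subset_span rfl)))
      (Ideal.mul_mem_left _ _ (Ideal.mem_sup_right hd))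
  set S := Ideal.span {qv q X} ⊔ M * J with hS
  have hM2 : M ^ 2 ≤ S := by
    rw [pow_two]
    refine (Ideal.mul_mono_right hM').trans ?_
    rw [Ideal.mul_sup]
    refine sup_le le_sup_right ((Ideal.mul_mono_left hM').trans ?_)
    rw [Ideal.sup_mul]
    refine sup_le ?_ ?_
    · rw [mul_comm]
      exact (Ideal.mul_mono_left ((Ideal.span_singleton_le_iff_mem _).2 hℓM)).trans le_sup_right
    · rw [Ideal.span_singleton_mul_span_singleton, Ideal.span_singleton_le_iff_mem, ← pow_two]
      exact hsq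
  rw [pow_succ']
  refine (Ideal.mul_mono_right hM2).trans ?_
  rw [hS, Ideal.mul_sup]
  exact sup_le le_sup_left (le_of_eq_of_le (by rw [← mul_assoc, ← pow_two]) le_sup_right)

/-- Substitutions tangent to the identity are automorphisms, with inverse tangent to the identity. -/
theorem exists_inverse_subst (v : Fin n → MvPowerSeries (Fin n) k) (hv : ∀ i, v i ∈ aug k n ^ 2) :
    ∃ h : Fin n → MvPowerSeries (Fin n) k, ∃ hh : HasSubst (fun i => X i + h i),
      (∀ i, substAlgHom (R := k) hh (X i + v i) = X i) ∧ Function.Bijective (substAlgHom (R := k) hh) := by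
  have hm1 : aug k n ^ 2 ≤ aug k n := Ideal.pow_le_self two_ne_zero
  have hXh : ∀ u : Fin n → MvPowerSeries (Fin n) k, (∀ i, u i ∈ aug k n ^ 2) →
      ∀ i, X i + u i ∈ aug k n := fun u hu i => Ideal.add_mem _ (X_mem i) (hm1 (hu i))
  let Φ : (Fin n → MvPowerSeries (Fin n) k) → Fin n → MvPowerSeries (Fin n) k :=
    fun u i => -subst (fun j => X j + u j) (v i)
  obtain ⟨h, hh, hfix⟩ := exists_fixed 2 Φ
    (fun u hu i => by
      simp only [Φ, ← substAlgHom_apply (hasSubst_of_mem (hXh u hu))]
      exact Submodule.neg_mem _ (subst_mem_pow (hXh u hu) (hv i)))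
    (fun u w hu hw N huw i => by
      simp only [Φ, ← substAlgHom_apply (hasSubst_of_mem (hXh u hu)),
        ← substAlgHom_apply (hasSubst_of_mem (hXh w hw)), neg_sub_neg]
      rcases N with _ | N
      · refine Ideal.pow_le_pow_right (show 0 + 1 ≤ 2 by omega) ?_
        exact Ideal.sub_mem _ (subst_mem_pow (hXh w hw) (hv i)) (subst_mem_pow (hXh u hu) (hv i))
      · refine Ideal.pow_le_pow_right (show N + 1 + 1 ≤ N + 2 by omega) ?_
        refine subst_congr_pow (hXh w hw) (hXh u hu) (fun j => ?_) 2 (v i) (hv i)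
        rw [add_sub_add_left_eq_sub, ← neg_sub]
        exact Submodule.neg_mem _ (huw j))
  set φ := substAlgHom (R := k) (hasSubst_of_mem (hXh h hh)) with hφ
  have hφv : ∀ i, φ (v i) = -h i := fun i => by
    have := congrFun hfix i
    simp only [Φ] at this
    rw [← this, neg_neg, hφ, substAlgHom_apply]
  have hφX : ∀ i, φ (X i + v i) = X i := fun i => by
    rw [map_add, hφv, hφ, substAlgHom_X]
    abel
  refine ⟨h, hasSubst_of_mem (hXh h hh), hφX, ?_, ?_⟩
  · refine (injective_iff_map_eq_zero _).mpr fun f hf => eq_zero_of_forall_mem_pow f fun N => ?_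
    induction N with
    | zero => simp
    | succ N ih =>
      have := subst_congr_pow (a := fun i => X i + h i) (b := X) (hXh h hh) X_mem (N := 1)
        (fun i => by simpa using Ideal.pow_le_pow_right (le_refl 2) (hh i)) N f ih
      rw [hf, substAlgHom_apply, MvPowerSeries.subst_self, id, zero_sub,
        add_comm] at this
      simpa using Submodule.neg_mem _ this
  · intro f
    refine ⟨substAlgHom (R := k) (hasSubst_of_mem (hXh v hv)) f, ?_⟩
    rw [substAlgHom_apply, substAlgHom_apply,
      MvPowerSeries.subst_comp_subst_apply (hasSubst_of_mem (hXh v hv)) (hasSubst_of_mem (hXh h hh))]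
    have : (fun i => subst (fun j => X j + h j) (X i + v i)) = (X : Fin n → MvPowerSeries (Fin n) k) := by
      funext i
      rw [← substAlgHom_apply (hasSubst_of_mem (hXh h hh))]
      exact hφX i
    rw [this, MvPowerSeries.subst_self, id]

/-- An ordinary quadratic series has the same quotient as its quadratic part. -/
theorem nonempty_algEquiv [IsAlgClosed k] (q : Fin n → Fin n → k) (hq : QuadOrd q)
    (F : MvPowerSeries (Fin n) k) (hF : F - qv q X ∈ aug k n ^ 3) :
    Nonempty ((MvPowerSeries (Fin n) k ⧸ Ideal.span {F}) ≃ₐ[k]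
      (MvPowerSeries (Fin n) k ⧸ Ideal.span {qv q X})) := by
  classical
  let c : Fin n × Fin n × Fin n → MvPowerSeries (Fin n) k := fun t => X t.1 * X t.2.1 * X t.2.2
  have hc3 : ∀ t, c t ∈ aug k n ^ 3 := fun t => by
    rw [pow_succ, pow_two]
    exact Ideal.mul_mem_mul (Ideal.mul_mem_mul (X_mem _) (X_mem _)) (X_mem _)
  have hspan : aug k n ^ 3 ≤ Ideal.span (Set.range c) := by
    rw [pow_succ, pow_two, aug_eq_span, Ideal.span_mul_span', Ideal.span_mul_span']
    refine Ideal.span_mono ?_
    rintro _ ⟨_, ⟨_, ⟨a, rfl⟩, _, ⟨b, rfl⟩, rfl⟩, _, ⟨d, rfl⟩, rfl⟩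
    exact ⟨(a, b, d), rfl⟩
  have hdec : ∀ t, ∃ w ∈ aug k n, ∃ v : Fin n → MvPowerSeries (Fin n) k,
      (∀ i, v i ∈ aug k n ^ 2) ∧ c t = w * qv q X + ∑ i, v i * grad q i := fun t => by
    obtain ⟨a, ha, b, hb, hab⟩ := Submodule.mem_sup.1 (cube_le q hq (hc3 t))
    obtain ⟨w, hw, rfl⟩ := Ideal.mem_mul_span_singleton.1 ha
    have hb' : b ∈ (aug k n ^ 2) • Submodule.span (MvPowerSeries (Fin n) k) (Set.range (grad q)) := by
      rwa [Ideal.smul_eq_mul]
    obtain ⟨g, hg, rfl⟩ := (Submodule.mem_ideal_smul_span_iff_exists_sum _ _ _).mp hb'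
    exact ⟨w, hw, g, hg, by rw [← hab, Finsupp.sum_fintype _ _ fun i => by simp]; rfl⟩
  choose w hw v hv hcwv using hdec
  obtain ⟨r, hr⟩ : ∃ r : Fin n × Fin n × Fin n → MvPowerSeries (Fin n) k, ∑ t, r t • c t = F - qv q X :=
    (Submodule.mem_span_range_iff_exists_fun _).1 (hspan hF)
  have hquart : ∀ a b d e : MvPowerSeries (Fin n) k, a ∈ aug k n → b ∈ aug k n → d ∈ aug k n → e ∈ aug k n →
      ∃ ε : Fin n × Fin n × Fin n → MvPowerSeries (Fin n) k, (∀ t, ε t ∈ aug k n) ∧ a * b * d * e = ∑ t, ε t * c t := by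
    intro a b d e ha hb hd he
    obtain ⟨ρ, hρ⟩ := (Submodule.mem_span_range_iff_exists_fun _).1 (hspan (show b * d * e ∈ aug k n ^ 3 by
      rw [pow_succ, pow_two]; exact Ideal.mul_mem_mul (Ideal.mul_mem_mul hb hd) he))
    refine ⟨fun t => a * ρ t, fun t => Ideal.mul_mem_right _ _ ha, ?_⟩
    rw [show a * b * d * e = a * (b * d * e) by ring, ← hρ, Finset.mul_sum]
    exact Finset.sum_congr rfl fun t _ => by rw [smul_eq_mul]; ring
  have hvv : ∀ i j s s', ∃ ε : Fin n × Fin n × Fin n → MvPowerSeries (Fin n) k,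
      (∀ t, ε t ∈ aug k n) ∧ v s i * v s' j = ∑ t, ε t * c t := by
    intro i j s s'
    have h4 : v s i * v s' j ∈ aug k n * aug k n ^ 3 := by
      rw [← pow_succ', show 3 + 1 = 2 + 2 from rfl, pow_add]
      exact Ideal.mul_mem_mul (hv s i) (hv s' j)
    have h5 : v s i * v s' j ∈ (aug k n) • Submodule.span (MvPowerSeries (Fin n) k) (Set.range c) := by
      rw [Ideal.smul_eq_mul]
      exact Ideal.mul_mono_right hspan h4
    obtain ⟨g, hg, hgs⟩ := (Submodule.mem_ideal_smul_span_iff_exists_sum _ _ _).mp h5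
    exact ⟨g, hg, by rw [← hgs, Finsupp.sum_fintype _ _ fun i => by simp]; rfl⟩
  choose ε hε hεeq using hvv
  let cq : Fin n → Fin n → MvPowerSeries (Fin n) k := fun i j => if i ≤ j then C (q i j) else 0
  let Φ : (Fin n × Fin n × Fin n → MvPowerSeries (Fin n) k) → Fin n × Fin n × Fin n → MvPowerSeries (Fin n) k :=
    fun K t => r t * (1 - ∑ s, K s * w s) - ∑ i, ∑ j, ∑ s, ∑ s', cq i j * (K s * K s') * ε i j s s' t
  obtain ⟨K, -, hK⟩ := exists_fixed 0 Φ (fun u _ i => by simp) (fun u u' _ _ N huu t => by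
    simp only [Φ]
    rw [show ∀ a b a' b' : MvPowerSeries (Fin n) k, a - b - (a' - b') = (a - a') - (b - b') from fun a b a' b' => by ring,
      ← mul_sub, sub_sub_sub_cancel_left, ← Finset.sum_sub_distrib]
    simp only [← Finset.sum_sub_distrib]
    refine Ideal.sub_mem _ (Ideal.mul_mem_left _ _ (Ideal.sum_mem _ fun s _ => ?_))
      (Ideal.sum_mem _ fun i _ => Ideal.sum_mem _ fun j _ => Ideal.sum_mem _ fun s _ => Ideal.sum_mem _ fun s' _ => ?_)
    · rw [← sub_mul, pow_succ]
      exact Ideal.mul_mem_mul (by rw [← neg_sub]; exact Submodule.neg_mem _ (huu s)) (hw s)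
    · rw [← sub_mul, ← mul_sub, pow_succ]
      refine Ideal.mul_mem_mul (Ideal.mul_mem_left _ _ ?_) (hε i j s s' t)
      rw [show u s * u s' - u' s * u' s' = (u s - u' s) * u s' + u' s * (u s' - u' s') by ring]
      exact Ideal.add_mem _ (Ideal.mul_mem_right _ _ (huu s)) (Ideal.mul_mem_left _ _ (huu s')))
  let V : Fin n → MvPowerSeries (Fin n) k := fun i => ∑ s, K s * v s i
  let W : MvPowerSeries (Fin n) k := -∑ s, K s * w s
  have hV : ∀ i, V i ∈ aug k n ^ 2 := fun i => Ideal.sum_mem _ fun s _ => Ideal.mul_mem_left _ _ (hv s i)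
  have hquad : qv q V = ∑ t, (∑ i, ∑ j, ∑ s, ∑ s', cq i j * (K s * K s') * ε i j s s' t) * c t := by
    simp only [qv, V, Finset.sum_mul, Finset.mul_sum]
    rw [eq_comm, Finset.sum_comm]
    refine Finset.sum_congr rfl fun i _ => ?_
    rw [Finset.sum_comm]
    refine Finset.sum_congr rfl fun j _ => ?_
    rw [Finset.sum_comm]
    rw [eq_comm, Finset.sum_comm]
    refine Finset.sum_congr rfl fun s _ => ?_
    rw [Finset.sum_comm]
    refine Finset.sum_congr rfl fun s' _ => ?_
    rw [show cq i j * (K s * v s i) * (K s' * v s' j) = cq i j * (K s * K s') * (v s i * v s' j) by ring,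
      hεeq, Finset.mul_sum]
    exact Finset.sum_congr rfl fun t _ => by ring
  have hlin : ∑ l, V l * grad q l - W * qv q X = ∑ s, K s * c s := by
    simp only [V, W, neg_mul, sub_neg_eq_add, Finset.sum_mul]
    rw [Finset.sum_comm, ← Finset.sum_add_distrib]
    refine Finset.sum_congr rfl fun s _ => ?_
    rw [hcwv, mul_add, Finset.mul_sum, add_comm]
    refine congrArg₂ (· + ·) (by simp only [qv, Finset.mul_sum, mul_assoc]) ?_
    rw [Finset.mul_sum]
    exact Finset.sum_congr rfl fun i _ => by ring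
  have hmain : qv q (X + V) = (1 + W) * F := by
    have h1 : ∑ s, K s * c s = (1 + W) * (F - qv q X) - qv q V := by
      rw [hquad, ← hr, Finset.mul_sum, ← Finset.sum_sub_distrib]
      refine Finset.sum_congr rfl fun t _ => ?_
      conv_lhs => rw [← hK]
      simp only [Φ, W, smul_eq_mul]
      ring
    rw [← hlin] at h1
    rw [qv_add]
    linear_combination h1
  obtain ⟨h, hh, hφX, hφ⟩ := exists_inverse_subst V hV
  let φ := AlgEquiv.ofBijective (substAlgHom (R := k) hh) hφ
  refine ⟨Ideal.quotientEquivAlg _ _ φ ?_⟩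
  rw [Ideal.map_span, Set.image_singleton]
  have hQ : φ ((1 + W) * F) = qv q X := by
    rw [← hmain]
    show substAlgHom (R := k) hh (qv q (X + V)) = _
    rw [map_qv]
    exact congrArg (qv q) (funext hφX)
  have hu : IsUnit (φ (1 + W)) := (MvPowerSeries.isUnit_iff_constantCoeff.2 (by
    have : constantCoeff W = 0 := by
      show constantCoeff (-∑ s, K s * w s) = 0
      rw [map_neg, neg_eq_zero]
      exact Ideal.sum_mem (aug k n) fun s _ => Ideal.mul_mem_left _ _ (hw s)
    rw [map_add, this, add_zero, map_one]; exact isUnit_one)).map φ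
  rw [← hQ, map_mul]
  exact Ideal.span_singleton_mul_left_unit hu _

end Groth.Agent.QuadHensLib
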