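import Groth.Agent.Henselization.Basic
import Groth.Agent.Hensel.Lift

/-!
# Henselizations do not change under étale neighbourhoods without residue extension
-/

set_option autoImplicit false
set_option linter.style.haveILetI false

universe u

open IsLocalRing

noncomputable section

namespace Groth.Agent.QuadHensLib

open Groth.Agent.Henselization (HenselizationRing)

theorem exists_equiv_of_etale {C : Type u} [CommRing C] (P : Ideal C) [P.IsPrime]
    (A : Type u) [CommRing A] [IsLocalRing A] [Algebra C A] [IsLocalization.AtPrime A P]
    (Ah : Type u) [CommRing Ah] [IsLocalRing Ah] [Algebra A Ah] [IsLocalHom (algebraMap A Ah)]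
    [hAh : Hensel.IsHenselization A Ah]
    {F : Type u} [CommRing F] [Algebra C F] [Algebra.Etale C F] (p' : Ideal F) [p'.IsPrime]
    (hP : p'.comap (algebraMap C F) = P)
    (hres : ∀ x : F, ∃ r s : C, s ∉ P ∧ algebraMap C F s * x - algebraMap C F r ∈ p') :
    ∃ e : Ah ≃+* HenselizationRing (Localization.AtPrime p'),
      ∀ c : C, e (algebraMap A Ah (algebraMap C A c)) =
        algebraMap (Localization.AtPrime p') _ (algebraMap F (Localization.AtPrime p') (algebraMap C F c)) := by
  let L := Localization.AtPrime p'
  let Lh := HenselizationRing (Localization.AtPrime p')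
  have hLh : Hensel.IsHenselization (Localization.AtPrime p') (HenselizationRing (Localization.AtPrime p')) :=
    inferInstance
  -- the local map
  have hu : ∀ c : P.primeCompl, IsUnit (((algebraMap F L).comp (algebraMap C F)) c) := fun c =>
    IsLocalization.map_units L (⟨algebraMap C F c, fun h => c.2 (hP.le (Ideal.mem_comap.2 h))⟩ : p'.primeCompl)
  let e : A →+* L := IsLocalization.lift hu
  have he : ∀ c, e (algebraMap C A c) = algebraMap F L (algebraMap C F c) := fun c => IsLocalization.lift_eq hu c
  haveI heloc : IsLocalHom e := by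
    refine ((local_hom_TFAE e).out 0 2 rfl rfl).mpr ?_
    rw [← IsLocalization.AtPrime.map_eq_maximalIdeal P A, Ideal.map_map, IsLocalization.lift_comp, ← Ideal.map_map,
      ← IsLocalization.AtPrime.map_eq_maximalIdeal p' L]
    refine Ideal.map_mono ?_
    rw [← hP]
    exact Ideal.map_comap_le
  -- residues of `F` come from `A`
  have hsurj : Function.Surjective (ResidueField.map e) := by
    intro z
    obtain ⟨z, rfl⟩ := residue_surjective z
    obtain ⟨⟨x, t⟩, hxt⟩ := IsLocalization.surj p'.primeCompl z
    have key : ∀ x : F, ∃ a, residue L (algebraMap F L x) = ResidueField.map e (residue A a) := by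
      intro x
      obtain ⟨r, s, hs, hrs⟩ := hres x
      refine ⟨IsLocalization.mk' A r (⟨s, hs⟩ : P.primeCompl), ?_⟩
      have h1 : residue L (algebraMap F L (algebraMap C F s * x - algebraMap C F r)) = 0 := by
        rw [residue_eq_zero_iff]
        exact (IsLocalization.AtPrime.to_map_mem_maximal_iff L p' _).2 hrs
      rw [map_sub, map_mul, map_sub, map_mul, sub_eq_zero, ← he, ← he] at h1
      rw [ResidueField.map_residue]
      refine ((hu ⟨s, hs⟩).map (residue L)).mul_left_cancel ?_
      show residue L (algebraMap F L (algebraMap C F s)) * _ = residue L (algebraMap F L (algebraMap C F s)) * _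
      rw [← he, h1, ← map_mul, ← map_mul, mul_comm, IsLocalization.mk'_spec_mk]
    obtain ⟨a, ha⟩ := key x
    obtain ⟨b, hb⟩ := key t
    refine ⟨residue A a / residue A b, ?_⟩
    rw [map_div₀, ← ha, ← hb, div_eq_iff ((IsLocalization.map_units L t).map (residue L)).ne_zero, ← map_mul, hxt]
  let ε : ResidueField A ≃+* ResidueField L := RingEquiv.ofBijective (ResidueField.map e) ⟨RingHom.injective _, hsurj⟩
  -- lift the point
  haveI := hAh.henselian
  letI algC : Algebra C Ah := ((algebraMap A Ah).comp (algebraMap C A)).toAlgebra
  let τ : ResidueField A →+* ResidueField Ah := ResidueField.map (algebraMap A Ah)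
  let σ : F →ₐ[C] Ah ⧸ maximalIdeal Ah :=
    { toRingHom := ((τ.comp ε.symm.toRingHom).comp ((residue L).comp (algebraMap F L)))
      commutes' := fun c => by
        show τ (ε.symm (residue L (algebraMap F L (algebraMap C F c)))) = _
        rw [← he, show residue L (e (algebraMap C A c)) = ε (residue A (algebraMap C A c)) from
          (ResidueField.map_residue e _).symm, ε.symm_apply_apply]
        rfl }
  obtain ⟨t, ht⟩ := (Groth.Agent.Hensel.bijective_comp_mk (R := C) (A := Ah) (I := maximalIdeal Ah) (E := F)).2 σ
  have htres : ∀ x, residue Ah (t x) = τ (ε.symm (residue L (algebraMap F L x))) := fun x => AlgHom.congr_fun ht x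
  have htu : ∀ y : p'.primeCompl, IsUnit (t y) := fun y => by
    rw [← residue_ne_zero_iff_isUnit, htres]
    refine (map_ne_zero τ).2 ((map_ne_zero ε.symm).2 ?_)
    exact ((IsLocalization.map_units L y).map (residue L)).ne_zero
  let tL : L →+* Ah := IsLocalization.lift (M := p'.primeCompl) (g := t.toRingHom) htu
  have htL : ∀ x, tL (algebraMap F L x) = t x := fun x => IsLocalization.lift_eq _ x
  have htLe : tL.comp e = algebraMap A Ah := IsLocalization.ringHom_ext P.primeCompl (RingHom.ext fun c => by
    show tL (e (algebraMap C A c)) = _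
    rw [he, htL, t.commutes]
    rfl)
  have hres' : ∀ z, residue Ah (tL z) = τ (ε.symm (residue L z)) := by
    intro z
    obtain ⟨⟨x, y⟩, hxy⟩ := IsLocalization.surj p'.primeCompl z
    refine (((IsLocalization.map_units L y).map tL).map (residue Ah)).mul_right_cancel ?_
    rw [← map_mul, ← map_mul, hxy, htL, htres, htL, htres, ← map_mul, ← map_mul, ← map_mul, hxy]
  haveI : IsLocalHom tL := ⟨fun z hz => by
    rw [← residue_ne_zero_iff_isUnit, hres'] at hz
    rw [← residue_ne_zero_iff_isUnit]
    intro h0
    rw [h0, map_zero, map_zero] at hz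
    exact hz rfl⟩
  -- the two comparison maps
  haveI := hLh.henselian
  haveI : IsLocalHom (algebraMap L Lh) := inferInstance
  obtain ⟨G, hG, -⟩ := hAh.universal Lh ((algebraMap L Lh).comp e) (RingHom.isLocalHom_comp _ _)
  obtain ⟨H, hH, -⟩ := hLh.universal Ah tL inferInstance
  have h1 : H.comp G = RingHom.id Ah :=
    (hAh.universal Ah (algebraMap A Ah) inferInstance).unique
      (by rw [RingHom.comp_assoc, hG, ← RingHom.comp_assoc]; exact (congrArg (fun f => RingHom.comp f e) hH).trans htLe)
      (RingHom.id_comp _)
  have hGloc : IsLocalHom G := ⟨fun z hz => by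
    have := hz.map H
    rwa [← RingHom.comp_apply, h1] at this⟩
  have h2 : G.comp H = RingHom.id Lh := by
    refine (hLh.universal Lh (algebraMap L Lh) inferInstance).unique ?_ (RingHom.id_comp _)
    rw [RingHom.comp_assoc, show H.comp (algebraMap L Lh) = tL from hH]
    refine IsLocalization.ringHom_ext p'.primeCompl (RingHom.ext fun x => ?_)
    letI : Algebra C Lh := ((algebraMap L Lh).comp ((algebraMap F L).comp (algebraMap C F))).toAlgebra
    let f₁ : F →ₐ[C] Lh :=
      { toRingHom := (algebraMap L Lh).comp (algebraMap F L), commutes' := fun _ => rfl }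
    let f₂ : F →ₐ[C] Lh :=
      { toRingHom := G.comp t.toRingHom
        commutes' := fun c => by
          show G (t (algebraMap C F c)) = _
          rw [t.commutes]
          refine (RingHom.congr_fun hG (algebraMap C A c)).trans ?_
          show algebraMap L Lh (e (algebraMap C A c)) = _
          rw [he]; rfl }
    show G (tL (algebraMap F L x)) = _
    rw [htL]
    refine AlgHom.congr_fun (Groth.Agent.Hensel.algHom_unique (A := Lh) (I := maximalIdeal Lh)
      (f := f₂) (g := f₁) (jacobson_eq_maximalIdeal (⊥ : Ideal Lh) bot_ne_top).ge fun y => ?_) x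
    refine Ideal.Quotient.eq.1 (show residue Lh (G (t y)) = residue Lh (algebraMap L Lh (algebraMap F L y)) from ?_)
    obtain ⟨a, ha⟩ := hsurj (residue L (algebraMap F L y))
    obtain ⟨a, rfl⟩ := residue_surjective a
    rw [← ResidueField.map_residue G, htres, ← ha,
      show ε.symm (ResidueField.map e (residue A a)) = residue A a from ε.symm_apply_apply (residue A a),
      ← ResidueField.map_residue (algebraMap L Lh), ← ha]
    simp only [τ, ResidueField.map_residue]
    exact congrArg (residue Lh) (RingHom.congr_fun hG a)
  refine ⟨RingEquiv.ofRingHom G H h2 h1, fun c => ?_⟩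
  show G (algebraMap A Ah (algebraMap C A c)) = _
  refine (RingHom.congr_fun hG _).trans ?_
  show algebraMap L Lh (e (algebraMap C A c)) = _
  rw [he]

end Groth.Agent.QuadHensLib
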